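import Groth.Agent.Lib.Ideal.Comap
import Groth.Agent.Lib.Amp36.Modif.Birat
import Groth.Prelude.Def_BlowUp2
import Mathlib.RingTheory.Jacobson.Ring
import Mathlib.AlgebraicGeometry.Morphisms.Integral
import Mathlib.AlgebraicGeometry.Morphisms.QuasiFinite

/-!
# Centres of a discrete valuation on modifications, and the descent under blowing up

For a local domain `A` and `c : Spec A ⟶ X` the subring `img c` is the image of the local ring at the centre.
Blowing up the centre divides a quotient presentation `a = T * b` by an element of the maximal ideal.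
-/

set_option autoImplicit false
universe u

open CategoryTheory Limits AlgebraicGeometry TopologicalSpace IsLocalRing

namespace Groth.Agent.Lib.NormBlow74.Center

variable {A : CommRingCat.{u}} [IsLocalRing A] {X Y : Scheme.{u}}

/-- The image of the local ring at the centre. -/
noncomputable abbrev img (c : Spec A ⟶ X) : Subring A := (Scheme.stalkClosedPointTo c).hom.range

theorem img_comp_le (c : Spec A ⟶ X) (g : X ⟶ Y) : img (c ≫ g) ≤ img c := by
  rintro _ ⟨s, rfl⟩
  exact ⟨g.stalkMap _ s, by rw [Scheme.stalkClosedPointTo_comp]; rfl⟩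

/-- The residue of `T` is integral over the residues of the local ring at the centre. -/
def IntegralRes (c : Spec A ⟶ X) (T : A) : Prop :=
  ((residue A).comp (Scheme.stalkClosedPointTo c).hom).IsIntegralElem (residue A T)

theorem factor_residue (c : Spec A ⟶ X) :
    ∃ ψ : X.residueField (c (closedPoint A)) →+* ResidueField A,
      ∀ s, ψ (X.residue _ s) = residue A (Scheme.stalkClosedPointTo c s) :=
  ⟨ResidueField.map (Scheme.stalkClosedPointTo c).hom, fun _ => rfl⟩

theorem isIntegral_residueFieldMap (g : X ⟶ Y) [LocallyOfFiniteType g] {w : X} (hw : IsClosed ({w} : Set X)) :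
    (g.residueFieldMap w).hom.IsIntegral := by
  haveI : IsClosedImmersion (X.fromSpecResidueField w) := isClosed_singleton_iff_isClosedImmersion.mp hw
  haveI : LocallyOfFiniteType (Spec.map (g.residueFieldMap w) ≫ Y.fromSpecResidueField (g w)) := by
    rw [Scheme.Hom.SpecMap_residueFieldMap_fromSpecResidueField]; infer_instance
  have h := locallyOfFiniteType_of_comp (Spec.map (g.residueFieldMap w)) (Y.fromSpecResidueField (g w))
  rw [HasRingHomProperty.Spec_iff (P := @LocallyOfFiniteType)] at h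
  algebraize [(g.residueFieldMap w).hom]
  haveI : Algebra.FiniteType (Y.residueField (g w)) (X.residueField w) := h
  haveI := finite_of_finite_type_of_isJacobsonRing (Y.residueField (g w)) (X.residueField w)
  exact fun x => Algebra.IsIntegral.isIntegral x

theorem integralRes_of_mem (c : Spec A ⟶ X) (g : X ⟶ Y) [LocallyOfFiniteType g]
    (hw : IsClosed ({c (closedPoint A)} : Set X)) {T : A} (hT : T ∈ img c) : IntegralRes (c ≫ g) T := by
  obtain ⟨t, rfl⟩ := hT
  obtain ⟨p, hp, hpe⟩ := isIntegral_residueFieldMap g hw (X.residue _ t)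
  obtain ⟨q, hqp, -, hq⟩ := Polynomial.lifts_and_degree_eq_and_monic (f := (Y.residue (g (c (closedPoint A)))).hom)
    (by rw [Polynomial.mem_lifts]; exact Polynomial.map_surjective _ (Y.residue_surjective _) p) hp
  obtain ⟨ψ, hψ⟩ := factor_residue c
  refine ⟨q, hq, ?_⟩
  have h1 := congrArg ψ hpe
  rw [map_zero, Polynomial.hom_eval₂, ← hqp, Polynomial.eval₂_map, hψ] at h1
  refine Eq.trans (congrArg (fun r => Polynomial.eval₂ r _ q) (RingHom.ext fun s => ?_)) h1
  show residue A ((Scheme.stalkClosedPointTo (c ≫ g)) s) = ψ ((g.residueFieldMap _) (Y.residue _ s))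
  rw [Scheme.stalkClosedPointTo_comp]
  show residue A (Scheme.stalkClosedPointTo c (g.stalkMap _ s)) = _
  rw [← hψ]
  exact congrArg ψ (DFunLike.congr_fun (congrArg CommRingCat.Hom.hom (Scheme.residue_residueFieldMap g _)) s).symm

/-- A residue not integral over the base exists at a non-closed point over a closed point. -/
theorem exists_not_integralRes (c : Spec A ⟶ X) (g : X ⟶ Y) [IsSeparated g]
    (hy : IsClosed ({g (c (closedPoint A))} : Set Y)) (hx : ¬ IsClosed ({c (closedPoint A)} : Set X)) :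
    ∃ T : A, ¬ IntegralRes (c ≫ g) T := by
  by_contra hno
  push Not at hno
  set x := c (closedPoint A)
  have hint : (g.residueFieldMap x).hom.IsIntegral := by
    intro u
    obtain ⟨ψ, hψ⟩ := factor_residue c
    obtain ⟨t, rfl⟩ := X.residue_surjective x u
    obtain ⟨q, hq, hqe⟩ := hno (Scheme.stalkClosedPointTo c t)
    refine ⟨q.map (Y.residue (g x)).hom, hq.map _, ψ.injective ?_⟩
    rw [map_zero, Polynomial.hom_eval₂, hψ]
    erw [Polynomial.eval₂_map]
    refine Eq.trans (congrArg (fun r => Polynomial.eval₂ r _ q) (RingHom.ext fun s => ?_)) hqe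
    show ψ ((g.residueFieldMap _) (Y.residue _ s)) = residue A ((Scheme.stalkClosedPointTo (c ≫ g)) s)
    rw [Scheme.stalkClosedPointTo_comp]
    show _ = residue A (Scheme.stalkClosedPointTo c (g.stalkMap _ s))
    rw [← hψ]
    exact congrArg ψ (DFunLike.congr_fun (congrArg CommRingCat.Hom.hom (Scheme.residue_residueFieldMap g _)) s)
  haveI : IsIntegralHom (Spec.map (g.residueFieldMap x)) := IsIntegralHom.SpecMap_iff.mpr hint
  haveI : IsClosedImmersion (Y.fromSpecResidueField (g x)) := isClosed_singleton_iff_isClosedImmersion.mp hy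
  haveI : UniversallyClosed (X.fromSpecResidueField x ≫ g) := by
    rw [← Scheme.Hom.SpecMap_residueFieldMap_fromSpecResidueField]; infer_instance
  haveI := UniversallyClosed.of_comp_of_isSeparated (X.fromSpecResidueField x) g
  refine hx ?_
  simpa [Scheme.range_fromSpecResidueField] using (X.fromSpecResidueField x).isClosedMap.isClosed_range

/-- On a morphism making the ideal of the closed centre invertible, the maximal ideal of the centre is
divisible by one element of the maximal ideal. -/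
theorem exists_divisor (c : Spec A ⟶ X) (π : X ⟶ Y) {w : Y} (hw : IsClosed ({w} : Set Y))
    (hc : π (c (closedPoint A)) = w)
    (hcart : BlowUp.IsEffCartierIdeal ((Scheme.IdealSheafData.vanishingIdeal ⟨{w}, hw⟩).comap π)) :
    ∃ P ∈ maximalIdeal A, ∀ a ∈ img (c ≫ π), a ∈ maximalIdeal A → ∃ s ∈ img c, a = P * s := by
  subst hc
  set z := c (closedPoint A)
  obtain ⟨U, hzU, f, -, hfU⟩ := hcart z
  obtain ⟨W, hW, hwW, -⟩ := exists_isAffineOpen_mem_and_subset (show π z ∈ (⊤ : Y.Opens) from trivial)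
  obtain ⟨U', hU', hzU', hle⟩ := exists_isAffineOpen_mem_and_subset
    (show z ∈ U.1 ⊓ π ⁻¹ᵁ W from ⟨hzU, hwW⟩)
  have hUU : U' ≤ U.1 := fun _ h => (hle h).1
  have hUW : U' ≤ π ⁻¹ᵁ W := fun _ h => (hle h).2
  set I := Scheme.IdealSheafData.vanishingIdeal (⟨{π z}, hw⟩ : Closeds Y)
  have hspan : (I.comap π).ideal ⟨U', hU'⟩ = Ideal.span {X.presheaf.map (homOfLE hUU).op f} := by
    rw [← (I.comap π).map_ideal (U := ⟨U', hU'⟩) (V := U) hUU, hfU, Ideal.map_span, Set.image_singleton]
    rfl
  rw [Ideal.Comap.ideal_comap π I ⟨W, hW⟩ ⟨U', hU'⟩ hUW] at hspan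
  set f' := X.presheaf.map (homOfLE hUU).op f
  set p := (hW.primeIdealOf ⟨π z, hwW⟩).asIdeal
  have hI : ∀ i, i ∈ I.ideal ⟨W, hW⟩ ↔ i ∈ p := fun i => by
    have : hW.fromSpec ⁻¹' ({π z} : Set Y) = {hW.primeIdealOf ⟨π z, hwW⟩} := Set.ext fun q =>
      ⟨fun h => hW.fromSpec.isOpenEmbedding.injective (h.trans (hW.fromSpec_primeIdealOf ⟨π z, hwW⟩).symm),
        fun h => (Set.mem_singleton_iff.mp h) ▸ hW.fromSpec_primeIdealOf ⟨π z, hwW⟩⟩
    show i ∈ PrimeSpectrum.vanishingIdeal (hW.fromSpec ⁻¹' ({π z} : Set Y)) ↔ _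
    erw [this, PrimeSpectrum.vanishingIdeal_singleton]
  letI : Algebra Γ(Y, W) (Y.presheaf.stalk (π z)) := TopCat.Presheaf.algebra_section_stalk Y.presheaf (⟨π z, hwW⟩ : W)
  haveI hloc : IsLocalization.AtPrime (Y.presheaf.stalk (π z)) p := hW.isLocalization_stalk ⟨π z, hwW⟩
  let germ := (X.presheaf.germ U' z hzU' ≫ Scheme.stalkClosedPointTo c).hom
  have hgerm : ∀ i : Γ(Y, W), germ (π.appLE W U' hUW i) =
      Scheme.stalkClosedPointTo (c ≫ π) (Y.presheaf.germ W (π z) hwW i) := fun i => by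
    rw [Scheme.stalkClosedPointTo_comp]
    show (X.presheaf.germ U' z hzU' ≫ Scheme.stalkClosedPointTo c) (π.appLE W U' hUW i) =
      Scheme.stalkClosedPointTo c (π.stalkMap z (Y.presheaf.germ W (π z) hwW i))
    rw [Scheme.Hom.germ_stalkMap_apply, Scheme.Hom.appLE]
    simp only [CommRingCat.comp_apply, TopCat.Presheaf.germ_res_apply]
  refine ⟨germ f', ?_, ?_⟩
  · have hf : f' ∈ Ideal.map (π.appLE W U' hUW).hom (I.ideal ⟨W, hW⟩) := hspan ▸ Ideal.mem_span_singleton_self f'
    have : Ideal.map (π.appLE W U' hUW).hom (I.ideal ⟨W, hW⟩) ≤ (maximalIdeal A).comap germ := by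
      rw [Ideal.map_le_iff_le_comap]
      intro i hi
      show germ _ ∈ maximalIdeal A
      rw [hgerm, IsLocalRing.mem_maximalIdeal]
      refine fun h => ?_
      have := isUnit_of_map_unit (Scheme.stalkClosedPointTo (c ≫ π)).hom _ h
      exact (IsLocalization.AtPrime.isUnit_to_map_iff (Y.presheaf.stalk (π z)) p i).mp this ((hI i).mp hi)
    exact this hf
  · rintro _ ⟨a, rfl⟩ ha
    change Y.presheaf.stalk (π z) at a
    obtain ⟨i, s, rfl⟩ := IsLocalization.exists_mk'_eq (S := Y.presheaf.stalk (π z)) p.primeCompl a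
    have hi : i ∈ p := by
      by_contra h
      exact (IsLocalRing.mem_maximalIdeal _).mp ha
        (((IsLocalization.AtPrime.isUnit_mk'_iff (Y.presheaf.stalk (π z)) p i s).mpr h).map (Scheme.stalkClosedPointTo (c ≫ π)).hom)
    obtain ⟨r, hr⟩ := Ideal.mem_span_singleton'.mp (hspan ▸ Ideal.mem_map_of_mem (π.appLE W U' hUW).hom ((hI i).mpr hi))
    obtain ⟨v, hv⟩ := img_comp_le c π ⟨IsLocalization.mk' (Y.presheaf.stalk (π z)) (1 : Γ(Y, W)) s, rfl⟩
    refine ⟨germ r * Scheme.stalkClosedPointTo c v, mul_mem ⟨_, rfl⟩ ⟨_, rfl⟩, ?_⟩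
    rw [← mul_assoc, ← map_mul germ, mul_comm f', hr, hgerm]
    rw [IsLocalization.mk'_eq_mul_mk'_one (S := Y.presheaf.stalk (π z))]
    erw [map_mul, hv]
    rfl

/-- One descent step. -/
theorem descend [IsDomain A] (c : Spec A ⟶ X) (π : X ⟶ Y) {w : Y} (hw : IsClosed ({w} : Set Y))
    (hc : π (c (closedPoint A)) = w)
    (hcart : BlowUp.IsEffCartierIdeal ((Scheme.IdealSheafData.vanishingIdeal ⟨{w}, hw⟩).comap π))
    {T a b : A} (hT : T ∉ img (c ≫ π)) (ha : a ∈ img (c ≫ π)) (hb : b ∈ img (c ≫ π)) (hb0 : b ≠ 0)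
    (hab : a = T * b) :
    ∃ a' ∈ img c, ∃ b' ∈ img c, b' ≠ 0 ∧ a' = T * b' ∧ Ideal.span {b} < Ideal.span {b'} := by
  have hbm : b ∈ maximalIdeal A := by
    obtain ⟨b₀, rfl⟩ := hb
    rw [IsLocalRing.mem_maximalIdeal]
    intro hu
    obtain ⟨v, hv⟩ := (isUnit_of_map_unit (Scheme.stalkClosedPointTo (c ≫ π)).hom _ hu).exists_left_inv
    refine hT ?_
    have : T = a * (Scheme.stalkClosedPointTo (c ≫ π)).hom v := by
      rw [hab, mul_assoc, mul_comm _ ((Scheme.stalkClosedPointTo (c ≫ π)).hom v), ← map_mul, hv, map_one, mul_one]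
    rw [this]
    exact mul_mem ha ⟨v, rfl⟩
  have ham : a ∈ maximalIdeal A := hab ▸ Ideal.mul_mem_left _ _ hbm
  obtain ⟨P, hP, hdiv⟩ := exists_divisor c π hw hc hcart
  obtain ⟨b', hb', rfl⟩ := hdiv b hb hbm
  obtain ⟨a', ha', rfl⟩ := hdiv a ha ham
  have hP0 : P ≠ 0 := left_ne_zero_of_mul hb0
  have hb'0 : b' ≠ 0 := right_ne_zero_of_mul hb0
  refine ⟨a', ha', b', hb', hb'0, mul_left_cancel₀ hP0 (hab.trans (mul_left_comm T P b')), ?_⟩
  refine lt_of_le_not_ge (Ideal.span_singleton_le_span_singleton.mpr (dvd_mul_left b' P)) fun h => ?_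
  obtain ⟨r, hr⟩ := Ideal.span_singleton_le_span_singleton.mp h
  have h1 : (P * r) * b' = 1 * b' := by rw [one_mul, mul_right_comm]; exact hr.symm
  exact (IsLocalRing.mem_maximalIdeal P).mp hP (IsUnit.of_mul_eq_one r (mul_right_cancel₀ hb'0 h1))

end Groth.Agent.Lib.NormBlow74.Center
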