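import Groth.Agent.Lib.NormBlow74.Modif

/-!
# Finitely many normalized blow-ups make the centre of a divisorial valuation non-closed
-/

set_option autoImplicit false
set_option linter.style.haveILetI false
universe u

open CategoryTheory Limits AlgebraicGeometry TopologicalSpace IsLocalRing

namespace Groth.Agent.Lib.NormBlow74.Descent

open Modif Center

variable (A : CommRingCat.{u}) [IsDomain A] [ValuationRing A] [IsNoetherianRing A]

/-- The centres over `e` are not closed. -/
def Good {W N : Scheme.{u}} (g : W ⟶ N) (e : Spec A ⟶ N) : Prop :=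
  ∀ c : Spec A ⟶ W, c ≫ g = e → ¬ IsClosed ({c (closedPoint A)} : Set W)

/-- Goodness persists on later stages. -/
theorem good_comp {W' W N : Scheme.{u}} (π : W' ⟶ W) [UniversallyClosed π] (g : W ⟶ N) {e : Spec A ⟶ N}
    (h : Good A g e) : Good A (π ≫ g) e := fun c hc hcl => by
  refine h (c ≫ π) (by rw [Category.assoc, hc]) ?_
  have := π.isClosedMap _ hcl
  rw [Set.image_singleton] at this
  exact this

omit [IsNoetherianRing A] in
/-- At the generic point the local ring is a field, so every quotient presentation is in the image. -/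
theorem mem_img_of_generic {W : Scheme.{u}} [IsIntegral W] (c : Spec A ⟶ W)
    (hc : c (closedPoint A) = genericPoint W) {T a b : A} (ha : a ∈ img c) (hb : b ∈ img c) (hb0 : b ≠ 0)
    (hab : a = T * b) : T ∈ img c := by
  obtain ⟨b₀, rfl⟩ := hb
  have hf : IsField (W.presheaf.stalk (c (closedPoint A))) := by
    rw [hc]; exact Field.toIsField W.functionField
  obtain ⟨v, hv⟩ := hf.mul_inv_cancel (a := b₀) (fun h => hb0 (by rw [h]; exact map_zero _))
  have : T = a * (Scheme.stalkClosedPointTo c).hom v := by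
    rw [hab, mul_assoc, ← map_mul, hv, map_one, mul_one]
  rw [this]
  exact mul_mem ha ⟨v, rfl⟩

theorem exists_good {N X : Scheme.{u}} [IsIntegral N] (e : Spec A ⟶ N) (he : IsGenPt (gen A ≫ e))
    (ν₀ : N ⟶ X) [LocallyOfFiniteType ν₀] {T : A} (hT : ¬ IntegralRes (e ≫ ν₀) T) {W : Scheme.{u}} (g : W ⟶ N) (hg : IsStage g) :
    ∃ (W' : Scheme.{u}) (π : W' ⟶ W), IsStage (π ≫ g) ∧ IsProper π ∧ Good A (π ≫ g) e := by
  suffices H : ∀ (I : Ideal A) (W : Scheme.{u}) (g : W ⟶ N), IsStage g → ∀ c : Spec A ⟶ W, c ≫ g = e →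
      ∀ a ∈ img c, ∀ b ∈ img c, b ≠ 0 → a = T * b → Ideal.span {b} = I →
      ∃ (W' : Scheme.{u}) (π : W' ⟶ W), IsStage (π ≫ g) ∧ IsProper π ∧ Good A (π ≫ g) e by
    haveI := hg.isIntegral
    haveI := hg.proper
    obtain ⟨c, hc, hc'⟩ := exists_center A g hg.bir he
    obtain ⟨a, ha, b, hb, hb0, hab⟩ := exists_fraction A c hc' T
    exact H _ W g hg c hc a ha b hb hb0 hab rfl
  intro I
  induction I using (wellFounded_gt (α := Ideal A)).induction with
  | _ I ih =>
    intro W g hg c hc a ha b hb hb0 hab hI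
    haveI := hg.isIntegral
    haveI := hg.proper
    by_cases hcl : IsClosed ({c (closedPoint A)} : Set W)
    swap
    · refine ⟨W, 𝟙 W, by rw [Category.id_comp]; exact hg, inferInstance, fun c' hc' => ?_⟩
      rw [Category.id_comp] at hc'
      rw [center_unique A g hg.bir he hc' hc]
      exact hcl
    have hTi : T ∉ img c := fun h => hT (by
      have := integralRes_of_mem c (g ≫ ν₀) hcl h
      rwa [← Category.assoc, hc] at this)
    have hne : c (closedPoint A) ≠ genericPoint W := fun h => hTi (mem_img_of_generic A c h ha hb hb0 hab)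
    obtain ⟨W', Z', ν, b₀, hg', hπ, hπb, hcart⟩ := exists_step hg hcl hne
    haveI := hπ
    haveI := hg'.isIntegral
    obtain ⟨h, hh, hh'⟩ := genPt_lift g hg.bir he
    have hgc : IsGenPt (gen A ≫ c) := by
      rw [genPt_unique g hg.bir he (inferInstanceAs (Subsingleton (PrimeSpectrum (FractionRing A))))
        (h := gen A ≫ c) (h' := h) (by rw [Category.assoc, hc]) hh]
      exact hh'
    obtain ⟨c', hc', -⟩ := exists_center A (ν ≫ b₀) hπb hgc
    have hc'' : (c' ≫ ν) ≫ b₀ = c := by rw [Category.assoc, hc']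
    obtain ⟨a', ha', b', hb', hb'0, hab', hlt⟩ := descend (c' ≫ ν) b₀ hcl
      (congr_arg (fun d : Spec A ⟶ W => d (closedPoint A)) hc'') hcart (T := T) (by rw [hc'']; exact hTi)
      (by rw [hc'']; exact ha) (by rw [hc'']; exact hb) hb0 hab
    obtain ⟨W'', π, hst, hπ', hgood⟩ := ih (Ideal.span {b'}) (hI ▸ hlt) W' ((ν ≫ b₀) ≫ g) hg' c'
      (by rw [← Category.assoc, hc', hc]) a' (img_comp_le c' ν ha') b' (img_comp_le c' ν hb') hb'0 hab' rfl
    haveI := hπ'
    exact ⟨W'', π ≫ ν ≫ b₀, by simpa only [Category.assoc] using hst, inferInstance,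
      by simpa only [Category.assoc] using hgood⟩

end Groth.Agent.Lib.NormBlow74.Descent
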