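import Groth.Agent.S7941

/-!
# The closure of the graph of a rational map; finiteness of its fibres
-/

set_option autoImplicit false
set_option linter.style.haveILetI false
universe u

open CategoryTheory Limits AlgebraicGeometry TopologicalSpace

namespace Groth.Agent.Lib.NormBlow74.Graph

theorem exists_graph {X Y S : Scheme.{u}} [IsIntegral X] [IsNoetherian X] (p : X ⟶ S) (q : Y ⟶ S) [IsProper q]
    (U : X.Opens) (hU : (U : Set X).Nonempty) (φ : (U : Scheme.{u}) ⟶ Y) (hφ : φ ≫ q = U.ι ≫ p) :
    ∃ (W : Scheme.{u}) (i : W ⟶ pullback p q), IsClosedImmersion i ∧ IsIntegral W ∧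
      IsIso ((i ≫ pullback.fst p q) ∣_ U) ∧
      ((i ≫ pullback.fst p q) ⁻¹ᵁ U).ι ≫ i ≫ pullback.snd p q = ((i ≫ pullback.fst p q) ∣_ U) ≫ φ := by
  let Γ : (U : Scheme.{u}) ⟶ pullback p q := pullback.lift U.ι φ hφ.symm
  have h1 : Γ ≫ pullback.fst p q = U.ι := pullback.lift_fst _ _ _
  have h2 : Γ ≫ pullback.snd p q = φ := pullback.lift_snd _ _ _
  haveI : QuasiCompact (Γ ≫ pullback.fst p q) := h1 ▸ inferInstance
  haveI : QuasiCompact Γ := QuasiCompact.of_comp Γ (pullback.fst p q)
  haveI : IsReduced Γ.image := Groth.Agent.Lib.Chow.Core.isReduced_image Γ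
  haveI : IsClosedImmersion Γ.imageι := inferInstanceAs (IsClosedImmersion Γ.ker.subschemeι)
  haveI : Nonempty U := hU.to_subtype
  haveI : IsIntegral (U : Scheme.{u}) := isIntegral_of_isOpenImmersion U.ι
  haveI : IrreducibleSpace Γ.image := by
    have h := ((IrreducibleSpace.isIrreducible_univ (U : Scheme.{u})).image Γ.toImage
      Γ.toImage.continuous.continuousOn).closure
    rw [Set.image_univ, (inferInstance : IsDominant Γ.toImage).denseRange.closure_range] at h
    exact { isPreirreducible_univ := h.2, toNonempty := ⟨h.1.choose⟩ }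
  haveI : IsIntegral Γ.image := isIntegral_of_irreducibleSpace_of_isReduced _
  have hτ : Γ.toImage ≫ Γ.imageι ≫ pullback.fst p q = (Iso.refl (U : Scheme.{u})).hom ≫ U.ι := by simp [h1]
  obtain ⟨e, he1, he2, he3⟩ := Groth.Agent.S7941.exists_graph_iso Γ.toImage (Γ.imageι ≫ pullback.fst p q) U
    (Iso.refl _) hτ
  refine ⟨_, Γ.imageι, inferInstance, inferInstance, ⟨e, he2, he1⟩, ?_⟩
  rw [← Category.id_comp (((Γ.imageι ≫ pullback.fst p q) ⁻¹ᵁ U).ι), ← he2, Category.assoc, Category.assoc,
    reassoc_of% he3]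
  simp [h2]

/-- Only finitely many points of a product lie over two closed points. -/
theorem finite_pairs {W X Y : Scheme.{u}} (g : W ⟶ X) [IsProper g] (f : Y ⟶ X) {w : W}
    (hw : IsClosed ({w} : Set W)) (y : Y) :
    ((pullback.fst g f) ⁻¹' {w} ∩ (pullback.snd g f) ⁻¹' {y}).Finite := by
  haveI : IsClosedImmersion (W.fromSpecResidueField w) := isClosed_singleton_iff_isClosedImmersion.mp hw
  let a := W.fromSpecResidueField w ≫ g
  haveI : Subsingleton (Spec (W.residueField w)) := inferInstanceAs (Subsingleton (PrimeSpectrum (W.residueField w)))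
  haveI : LocallyQuasiFinite a := LocallyQuasiFinite.of_injective (Function.injective_of_subsingleton _)
  let ι := pullback.map a f g f (W.fromSpecResidueField w) (𝟙 Y) (𝟙 X) (by simp [a]) (by simp)
  refine (((pullback.snd a f).finite_preimage_singleton y).image ι).subset fun p hp => ?_
  have hr : p ∈ Set.range ι := by
    rw [Scheme.Pullback.range_map]
    exact ⟨by rw [Scheme.range_fromSpecResidueField]; exact hp.1, ⟨pullback.snd g f p, rfl⟩⟩
  obtain ⟨t, rfl⟩ := hr
  refine ⟨t, ?_, rfl⟩
  have hι : ι ≫ pullback.snd g f = pullback.snd a f := (pullback.lift_snd _ _ _).trans (Category.comp_id _)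
  show pullback.snd a f t = y
  rw [← hι, Scheme.Hom.comp_apply]
  exact hp.2

end Groth.Agent.Lib.NormBlow74.Graph
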