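import Groth.Agent.Lib.NormBlow74.Descent
import Groth.Agent.Lib.NormBlow74.Graph
import Groth.Prelude.Def_CAlg

/-!
# Sequences of normalized blow-ups dominate proper birational morphisms of surfaces
-/

set_option autoImplicit false
set_option linter.style.haveILetI false
universe u

open CategoryTheory Limits AlgebraicGeometry TopologicalSpace IsLocalRing

namespace Groth.Agent.Lib.NormBlow74.Main

open Modif Center Descent

theorem genPt_comp {W N : Scheme.{u}} [IsIntegral W] [IsIntegral N] (g : W ⟶ N) (hg : Bir g)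
    {K : CommRingCat.{u}} {h : Spec K ⟶ W} (hh : IsGenPt h) : IsGenPt (h ≫ g) := by
  obtain ⟨hgen, hb⟩ := generic_of_bir hg
  obtain ⟨ω, hω, rfl⟩ := hh
  have hsp : g (genericPoint W) ⤳ genericPoint N := specializes_of_eq hgen
  let σ := N.presheaf.stalkSpecializes hsp
  have hσ : Function.Bijective σ.hom := Groth.Agent.H22.Birational12426.bijective_specializes hgen hsp
  have hsp' : genericPoint N ⤳ g (genericPoint W) := specializes_of_eq hgen.symm
  let σ' := N.presheaf.stalkSpecializes hsp'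
  have hσσ : σ' ≫ σ = 𝟙 _ := by
    simp only [σ, σ', TopCat.Presheaf.stalkSpecializes_comp, TopCat.Presheaf.stalkSpecializes_refl]
  refine ⟨σ ≫ g.stalkMap _ ≫ ω, ?_, ?_⟩
  · simp only [CommRingCat.hom_comp, RingHom.coe_comp]
    exact (hω.comp hb).comp hσ
  · rw [Category.assoc, ← Scheme.SpecMap_stalkMap_fromSpecStalk]
    simp only [Spec.map_comp, Category.assoc]
    rw [Scheme.SpecMap_stalkSpecializes_fromSpecStalk hsp]

set_option backward.isDefEq.respectTransparency.types false in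
theorem genPt_fromSpecStalk {Y : Scheme.{u}} [IsIntegral Y] (η : Y) :
    IsGenPt (gen (Y.presheaf.stalk η) ≫ Y.fromSpecStalk η) := by
  let ω := IsLocalization.algEquiv (nonZeroDivisors (Y.presheaf.stalk η)) Y.functionField
    (FractionRing (Y.presheaf.stalk η))
  refine ⟨CommRingCat.ofHom ω.toRingEquiv.toRingHom, ω.bijective, ?_⟩
  have hs : genericPoint Y ⤳ η := (genericPoint_spec Y).specializes trivial
  have key : CommRingCat.ofHom (algebraMap (Y.presheaf.stalk η) (FractionRing (Y.presheaf.stalk η))) =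
      Y.presheaf.stalkSpecializes hs ≫ CommRingCat.ofHom ω.toRingEquiv.toRingHom :=
    CommRingCat.hom_ext (RingHom.ext fun a => (ω.commutes a).symm)
  rw [← Scheme.SpecMap_stalkSpecializes_fromSpecStalk hs, gen, key, Spec.map_comp]
  exact Category.assoc _ _ _

theorem valuationRing_stalk {Y : Scheme.{u}} [IsIntegral Y] [IsLocallyNoetherian Y] (hY : Pi1.IsNormalScheme Y)
    {η : Y} (h1 : ringKrullDim (Y.presheaf.stalk η) ≤ 1) : ValuationRing (Y.presheaf.stalk η) := by
  haveI := (hY η).2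
  haveI : Ring.KrullDimLE 1 (Y.presheaf.stalk η) := Ring.krullDimLE_iff.mpr h1
  haveI : Ring.DimensionLEOne (Y.presheaf.stalk η) :=
    ⟨fun {q} hq hprime => Ideal.IsPrime.isMaximal_of_ne_bot hprime hq⟩
  haveI : IsDedekindDomain (Y.presheaf.stalk η) := { }
  exact ((tfae_of_isNoetherianRing_of_isLocalRing_of_isDomain (Y.presheaf.stalk η)).out 2 1).mp ‹_›

variable {X Y : Scheme.{u}} [IsIntegral X] [AlgebraicGeometry.IsNoetherian X] [IsIntegral Y] [AlgebraicGeometry.IsNoetherian Y] (f : Y ⟶ X)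

/-- Non-closed points over closed points. -/
def bad : Set Y := {η | ¬ IsClosed ({η} : Set Y) ∧ IsClosed ({f η} : Set X)}

theorem exists_proper_specialization {Y : Scheme.{u}} {η : Y} (h : ¬ IsClosed ({η} : Set Y)) : ∃ y, η ⤳ y ∧ η ≠ y := by
  by_contra hno
  push Not at hno
  refine h (closure_subset_iff_isClosed.mp fun y hy => ?_)
  exact (hno y (specializes_iff_mem_closure.mpr hy)).symm

theorem bad_finite (V : X.Opens) (hV : (V : Set X).Nonempty) (hiso : IsIso (f ∣_ V))
    (hd : ∀ y : Y, ringKrullDim (Y.presheaf.stalk y) ≤ 2) : (bad f).Finite := by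
  haveI := hiso
  set Z : Set Y := ((f ⁻¹ᵁ V : Y.Opens) : Set Y)ᶜ
  have hZc : IsClosed Z := (f ⁻¹ᵁ V).2.isClosed_compl
  obtain ⟨S, hSf, hSc, hSi, hSU⟩ := NoetherianSpace.exists_finite_set_isClosed_irreducible hZc
  choose! gp hgp using fun (s : Set Y) (hs : s ∈ S) => QuasiSober.sober (hSi s hs) (hSc s hs)
  refine (hSf.image gp).subset fun η hη => ?_
  have hZ : η ∈ Z := fun hin => hη.1 (by
    have : (f ⁻¹' {f η}) = {η} := Set.eq_singleton_iff_unique_mem.mpr
      ⟨rfl, fun z hz => (Amp36.Modif.Birat.eq_of_apply_eq f V hin (Eq.symm hz)).symm⟩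
    exact this ▸ hη.2.preimage f.continuous)
  rw [hSU] at hZ
  obtain ⟨s, hs, hηs⟩ := Set.mem_sUnion.mp hZ
  refine ⟨s, hs, ?_⟩
  by_contra hne
  obtain ⟨y, hy, hy'⟩ := exists_proper_specialization hη.1
  have h := ModelFibre.Centered.eq_genericPoint_of_chain (hd y) ((hgp s hs).specializes hηs) hne hy hy' rfl
  have hgZ : gp s ∈ Z := hSU ▸ Set.mem_sUnion.mpr ⟨s, hs, (hgp s hs).mem⟩
  refine hgZ ?_
  rw [h]
  exact Amp36.Modif.Birat.apply_genericPoint_mem f V hV

/-- All centres of the bad points become non-closed. -/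
theorem exists_all_good [IsProper f] (hf : Bir f) (hY : Pi1.IsNormalScheme Y)
    (hd : ∀ y : Y, ringKrullDim (Y.presheaf.stalk y) ≤ 2)
    {N : Scheme.{u}} [IsIntegral N] [IsNoetherian N] (hN : Pi1.IsNormalScheme N) (hNag : IsNag N)
    (ν : N ⟶ X) [IsProper ν] (hν : Bir ν) :
    ∃ (W : Scheme.{u}) (g : W ⟶ N), IsStage g ∧ ∀ η ∈ bad f, ∀ c : Spec (Y.presheaf.stalk η) ⟶ W,
      c ≫ g ≫ ν = Y.fromSpecStalk η ≫ f → ¬ IsClosed ({c (closedPoint _)} : Set W) := by
  obtain ⟨V, hV, hiso⟩ := hf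
  refine Set.Finite.induction_on (motive := fun S _ => S ⊆ bad f → ∃ (W : Scheme.{u}) (g : W ⟶ N), IsStage g ∧
    ∀ η ∈ S, ∀ c : Spec (Y.presheaf.stalk η) ⟶ W,
      c ≫ g ≫ ν = Y.fromSpecStalk η ≫ f → ¬ IsClosed ({c (closedPoint _)} : Set W))
    (bad f) (bad_finite f V hV hiso hd) (fun _ => ⟨N, 𝟙 N, isStage_id hN hNag, fun η h => h.elim⟩) ?_ subset_rfl
  intro η S _ _ ih hsub
  obtain ⟨W, g, hg, hgood⟩ := ih ((Set.subset_insert η S).trans hsub)
  have hη : η ∈ bad f := hsub (Set.mem_insert η S)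
  obtain ⟨y', hy', hne'⟩ := exists_proper_specialization hη.1
  haveI := valuationRing_stalk hY (ModelFibre.Centered.ringKrullDim_stalk_le_one (hd y') hy' hne')
  let e₀ := Y.fromSpecStalk η ≫ f
  have he₀ : IsGenPt (gen (Y.presheaf.stalk η) ≫ e₀) := by
    rw [← Category.assoc]
    exact genPt_comp f ⟨V, hV, hiso⟩ (genPt_fromSpecStalk η)
  obtain ⟨T, hT⟩ := exists_not_integralRes (Y.fromSpecStalk η) f
    (by rw [Scheme.fromSpecStalk_closedPoint]; exact hη.2) (by rw [Scheme.fromSpecStalk_closedPoint]; exact hη.1)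
  obtain ⟨e, he, he'⟩ := exists_center _ ν hν he₀
  obtain ⟨W', π, hst, hπ, hgood'⟩ := exists_good _ e he' ν (T := T) (by rw [he]; exact hT) g hg
  haveI := hπ
  haveI := hst.isIntegral
  refine ⟨W', π ≫ g, hst, fun η' hη' c hc hcl => ?_⟩
  rcases Set.mem_insert_iff.mp hη' with rfl | hS
  · exact hgood' c (center_unique _ ν hν he₀ (by rw [Category.assoc, hc]) he) hcl
  · refine hgood η' hS (c ≫ π) (by simpa only [Category.assoc] using hc) ?_
    have := π.isClosedMap _ hcl
    rw [Set.image_singleton] at this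
    exact this

/-- A sequence of normalized blow-ups factors through a proper birational morphism from a normal surface. -/
theorem exists_dominating [IsProper f] (hf : Bir f) (hY : Pi1.IsNormalScheme Y)
    (hdX : topologicalKrullDim X ≤ 2)
    {N : Scheme.{u}} [IsIntegral N] [IsNoetherian N] (hN : Pi1.IsNormalScheme N) (hNag : IsNag N)
    (ν : N ⟶ X) [IsProper ν] (hν : Bir ν) :
    ∃ (W : Scheme.{u}) (g : W ⟶ N), Resolve.IsNormPtBlowupSeq g ∧ ∃ h : W ⟶ Y, h ≫ f = g ≫ ν := by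
  have hdY : ∀ y : Y, ringKrullDim (Y.presheaf.stalk y) ≤ 2 := by
    obtain ⟨V, hV, hiso⟩ := hf
    haveI := hiso
    exact fun y => Amp36.Modif.Birat.ringKrullDim_stalk_le f V hV 2 hdX y
  obtain ⟨W, g, hg, hgood⟩ := exists_all_good f hf hY hdY hN hNag ν hν
  haveI := hg.isIntegral
  haveI := hg.isNoetherian
  haveI := hg.proper
  let G := g ≫ ν
  have hG : Bir G := bir_comp hg.bir hν
  obtain ⟨V₁, hV₁, hiso₁⟩ := id hG
  obtain ⟨V, hV, hiso⟩ := id hf
  haveI := hiso₁
  haveI := hiso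
  haveI : Nonempty X := ⟨genericPoint X⟩
  let U : W.Opens := G ⁻¹ᵁ V
  have hU : (U : Set W).Nonempty := by
    refine ⟨genericPoint W, ?_⟩
    show G (genericPoint W) ∈ V
    rw [(generic_of_bir hG).1]
    exact ((genericPoint_spec X).mem_open_set_iff V.2).2 (by simpa using hV)
  let φ : (U : Scheme.{u}) ⟶ Y := G ∣_ V ≫ inv (f ∣_ V) ≫ (f ⁻¹ᵁ V).ι
  have hφ : φ ≫ f = U.ι ≫ G := by
    simp only [φ, Category.assoc, ← morphismRestrict_ι, IsIso.inv_hom_id_assoc]
    exact morphismRestrict_ι _ _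
  obtain ⟨P, i, hi, hPint, hPiso, -⟩ := Graph.exists_graph G f U hU φ hφ
  haveI := hi
  haveI := hPint
  let π₁ := i ≫ pullback.fst G f
  let π₂ := i ≫ pullback.snd G f
  haveI : IsProper π₁ := inferInstanceAs (IsProper (i ≫ _))
  haveI : IsProper π₂ := inferInstanceAs (IsProper (i ≫ _))
  have hcomm : π₁ ≫ G = π₂ ≫ f := by simp [π₁, π₂, pullback.condition]
  have hb₁ : Bir π₁ := ⟨U, hU, hPiso⟩
  obtain ⟨hg₁, hs₁⟩ := generic_of_bir hb₁
  have hb₂ : Bir π₂ := by
    refine bir_of_generic π₂ ?_ ?_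
    · refine (Amp36.Modif.Birat.eq_of_apply_eq f V (Amp36.Modif.Birat.apply_genericPoint_mem f V hV) ?_).symm
      rw [← Scheme.Hom.comp_apply, ← hcomm, Scheme.Hom.comp_apply, hg₁, (generic_of_bir hG).1,
        (generic_of_bir hf).1]
    · have h1 := residue_bijective_of_bir (bir_comp hb₁ hG)
      rw [hcomm, Scheme.residueFieldMap_comp] at h1
      exact ⟨RingHom.injective _, (Function.Surjective.of_comp h1.2)⟩
  have hdW : ∀ w : W, ringKrullDim (W.presheaf.stalk w) ≤ 2 := fun w =>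
    Amp36.Modif.Birat.ringKrullDim_stalk_le G V₁ hV₁ 2 hdX w
  have hfin : ∀ w, (π₁ ⁻¹' {w}).Finite := by
    intro w
    by_cases hw : IsClosed ({w} : Set W)
    swap
    · obtain ⟨w', hw', hne⟩ := exists_proper_specialization hw
      exact (ModelFibre.Centered.subsingleton_fibre π₁ hg.normal hg₁ hs₁
        (ModelFibre.Centered.ringKrullDim_stalk_le_one (hdW w') hw' hne)).finite
    have hFc : IsClosed (π₂ '' (π₁ ⁻¹' {w})) := π₂.isClosedMap _ (hw.preimage π₁.continuous)
    have hpts : ∀ y ∈ π₂ '' (π₁ ⁻¹' {w}), IsClosed ({y} : Set Y) := by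
      rintro _ ⟨ζ, hζ, rfl⟩
      by_contra hncl
      have hfw : f (π₂ ζ) = G w := by rw [← Scheme.Hom.comp_apply, ← hcomm, Scheme.Hom.comp_apply, hζ]
      have hbad : π₂ ζ ∈ bad f := ⟨hncl, hfw ▸ (by
        have := G.isClosedMap _ hw
        rwa [Set.image_singleton] at this)⟩
      obtain ⟨y', hy', hne'⟩ := exists_proper_specialization hncl
      have h1 := ModelFibre.Centered.ringKrullDim_stalk_le_one (hdY y') hy' hne'
      haveI := valuationRing_stalk hY h1
      obtain ⟨d, hd, -⟩ := exists_center _ π₂ hb₂ (genPt_fromSpecStalk (π₂ ζ))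
      obtain ⟨hg₂, hs₂⟩ := generic_of_bir hb₂
      have hdζ : d (closedPoint _) = ζ := ModelFibre.Centered.subsingleton_fibre π₂ hY hg₂ hs₂ h1
        (show π₂ (d (closedPoint _)) = π₂ ζ by
          exact (congr_arg (fun m : Spec (Y.presheaf.stalk (π₂ ζ)) ⟶ Y => m (closedPoint _)) hd).trans
            Scheme.fromSpecStalk_closedPoint)
        rfl
      refine hgood _ hbad (d ≫ π₁) (by rw [Category.assoc, hcomm, reassoc_of% hd]) ?_
      rw [show (d ≫ π₁) (closedPoint _) = w from (congrArg π₁ hdζ).trans hζ]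
      exact hw
    refine (((Groth.Agent.S7941.finite_of_closed_points hFc hpts).biUnion fun y _ =>
      (Graph.finite_pairs G f hw y).preimage i.isClosedEmbedding.injective.injOn)).subset fun ζ hζ => ?_
    simp only [Set.mem_iUnion]
    exact ⟨π₂ ζ, ⟨ζ, hζ, rfl⟩, hζ, rfl⟩
  haveI := ModelFibre.Centered.isIso_of_finite π₁ hg.normal hg₁ hs₁ hfin
  exact ⟨W, g, hg.seq, inv π₁ ≫ π₂, by rw [Category.assoc, ← hcomm, IsIso.inv_hom_id_assoc]⟩

end Groth.Agent.Lib.NormBlow74.Main
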