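import Groth.Agent.Lib.NormBlow74.Center
import Groth.Agent.H22.Birational12426.Over
import Groth.Agent.H22.AffineCompl11382.Main
import Groth.Agent.S9674
import Groth.Agent.S0566
import Groth.Agent.S9833
import Groth.Agent.S2351
import Groth.Agent.Lib.BlowUpExists.Proper
import Groth.Prelude.Def_ResolveSeq

/-!
# Modifications: normalization, normalized blow-ups, lifting centres
-/

set_option autoImplicit false
set_option linter.style.haveILetI false
universe u

open CategoryTheory Limits AlgebraicGeometry TopologicalSpace IsLocalRing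

namespace Groth.Agent.Lib.NormBlow74.Modif

open Groth.Agent.Lib

/-- An isomorphism over a nonempty open. -/
def Bir {Z W : Scheme.{u}} (p : Z ⟶ W) : Prop := ∃ V : W.Opens, (V : Set W).Nonempty ∧ IsIso (p ∣_ V)

theorem generic_of_bir {Z W : Scheme.{u}} [IsIntegral Z] [IsIntegral W] {p : Z ⟶ W} (h : Bir p) :
    p (genericPoint Z) = genericPoint W ∧ Function.Bijective (p.stalkMap (genericPoint Z)) := by
  obtain ⟨V, hV, hiso⟩ := h
  exact ZMTStein.generic_of_isIso_restrict p V hV hiso

theorem bir_of_generic {Z W : Scheme.{u}} [IsIntegral Z] [IsIntegral W] (p : Z ⟶ W) [IsSeparated p]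
    [LocallyOfFiniteType p] (h : p (genericPoint Z) = genericPoint W)
    (hb : Function.Bijective (p.residueFieldMap (genericPoint Z)).hom) : Bir p :=
  Groth.Agent.H22.Birational12426.exists_isIso_open p h hb

theorem residue_bijective_of_bir {Z W : Scheme.{u}} [IsIntegral Z] [IsIntegral W] {p : Z ⟶ W} (h : Bir p) :
    Function.Bijective (p.residueFieldMap (genericPoint Z)).hom := by
  obtain ⟨-, hb⟩ := generic_of_bir h
  refine ⟨RingHom.injective _, fun y => ?_⟩
  obtain ⟨s, rfl⟩ := Scheme.residue_surjective Z _ y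
  obtain ⟨t, rfl⟩ := hb.2 s
  exact ⟨W.residue _ t, congr($(Scheme.residue_residueFieldMap p _) t)⟩

theorem bir_comp {Z W N : Scheme.{u}} [IsIntegral Z] [IsIntegral W] [IsIntegral N] {p : Z ⟶ W} {q : W ⟶ N}
    [IsSeparated p] [LocallyOfFiniteType p] [IsSeparated q] [LocallyOfFiniteType q]
    (hp : Bir p) (hq : Bir q) : Bir (p ≫ q) := by
  obtain ⟨hp1, -⟩ := generic_of_bir hp
  obtain ⟨hq1, -⟩ := generic_of_bir hq
  refine bir_of_generic _ (by rw [Scheme.Hom.comp_apply, hp1, hq1]) ?_
  have hb : Function.Bijective (q.residueFieldMap (p (genericPoint Z))).hom := by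
    rw [hp1]
    exact residue_bijective_of_bir hq
  rw [Scheme.residueFieldMap_comp]
  exact (residue_bijective_of_bir hp).comp hb

/-- All affine coordinate rings are Nagata. -/
def IsNag (X : Scheme.{u}) : Prop := ∀ U : X.affineOpens, CAlg.IsNagata Γ(X, U.1)

theorem isNag_of_lft {Y X : Scheme.{u}} (p : Y ⟶ X) [LocallyOfFiniteType p] (hX : IsNag X) : IsNag Y := by
  intro U
  let ι := {q : X.affineOpens × Y.affineOpens // q.2.1 ≤ p ⁻¹ᵁ q.1.1}
  refine Groth.Agent.S9833.result _ (fun i : ι => i.1.2.1) ?_ (fun i => i.1.2.2) (fun i => ?_) U.1 U.2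
  · refine eq_top_iff.2 fun y _ => TopologicalSpace.Opens.mem_iSup.2 ?_
    obtain ⟨A, hA, hyA, -⟩ := exists_isAffineOpen_mem_and_subset (x := p y) (U := ⊤) trivial
    obtain ⟨B, hB, hyB, hBA⟩ := exists_isAffineOpen_mem_and_subset (x := y) (U := p ⁻¹ᵁ A) hyA
    exact ⟨⟨(⟨A, hA⟩, ⟨B, hB⟩), hBA⟩, hyB⟩
  · let := (p.appLE i.1.1.1 i.1.2.1 i.2).hom.toAlgebra
    have : Algebra.FiniteType Γ(X, i.1.1.1) Γ(Y, i.1.2.1) := p.finiteType_appLE i.1.1.2 i.1.2.2 i.2
    exact Groth.Agent.S0566.result _ (hX i.1.1) _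

theorem finiteSpec_qc (X : Scheme.{u}) [IsIntegral X] :
    QuasiCompact (X.fromSpecStalk (genericPoint X)) := by
  haveI : Subsingleton (Spec (X.presheaf.stalk (genericPoint X))) :=
    inferInstanceAs (Subsingleton (PrimeSpectrum X.functionField))
  exact ⟨fun U _ _ => (Set.subsingleton_of_subsingleton).finite.isCompact⟩

theorem qs_generic (X : Scheme.{u}) [IsIntegral X] :
    QuasiSeparated (X.fromSpecStalk (genericPoint X)) := inferInstance

theorem normalization_good (X : Scheme.{u}) [IsIntegral X] [IsNoetherian X] (hX : IsNag X)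
    [QuasiCompact (X.fromSpecStalk (genericPoint X))] [QuasiSeparated (X.fromSpecStalk (genericPoint X))] :
    ∃ (_ : IsIntegral (Curv2.normalization X)) (_ : IsFinite (Curv2.normalizationι X)),
      IsNoetherian (Curv2.normalization X) ∧ Pi1.IsNormalScheme (Curv2.normalization X) ∧
      IsNag (Curv2.normalization X) ∧ Bir (Curv2.normalizationι X) := by
  let g := X.fromSpecStalk (genericPoint X)
  have : Subsingleton (Spec (X.presheaf.stalk (genericPoint X))) :=
    inferInstanceAs (Subsingleton (PrimeSpectrum X.functionField))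
  have : AlgebraicGeometry.IsIntegral (Spec X.functionField) := inferInstance
  have : AlgebraicGeometry.IsReduced (Spec (X.presheaf.stalk (genericPoint X))) :=
    inferInstanceAs (AlgebraicGeometry.IsReduced (Spec X.functionField))
  haveI hfin : IsFinite (Curv2.normalizationι X) := by
    refine Groth.Agent.S9674.result g hX (locallyFinite_of_finite _) fun y _ => ?_
    refine RingHom.FiniteType.essFiniteType (RingHom.FiniteType.of_surjective _ ?_)
    intro a
    obtain ⟨a, rfl⟩ := Scheme.residue_surjective _ y a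
    obtain ⟨d, rfl⟩ := g.stalkMap_surjective y a
    exact ⟨X.residue (g y) d, DFunLike.congr_fun (congrArg CommRingCat.Hom.hom (Scheme.residue_residueFieldMap g y)) d⟩
  obtain ⟨hint, hn, -, hgen, hres⟩ := Groth.Agent.S2351.result X
  haveI := hint
  haveI : IsLocallyNoetherian (Curv2.normalization X) :=
    LocallyOfFiniteType.isLocallyNoetherian (Curv2.normalizationι X)
  haveI : CompactSpace (Curv2.normalization X) :=
    QuasiCompact.compactSpace_of_compactSpace (Curv2.normalizationι X)
  exact ⟨hint, hfin, {}, hn, isNag_of_lft (Curv2.normalizationι X) hX, bir_of_generic _ hgen hres⟩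

/-- The standing properties of a stage of a sequence of normalized blow-ups of `N`. -/
structure IsStage {W N : Scheme.{u}} (g : W ⟶ N) : Prop where
  seq : Resolve.IsNormPtBlowupSeq g
  isIntegral : IsIntegral W
  isNoetherian : IsNoetherian W
  normal : Pi1.IsNormalScheme W
  nagata : IsNag W
  proper : IsProper g
  bir : Bir g

theorem isStage_id {N : Scheme.{u}} [IsIntegral N] [IsNoetherian N] (hn : Pi1.IsNormalScheme N) (hN : IsNag N) :
    IsStage (𝟙 N) :=
  ⟨Resolve.IsNormPtBlowupSeq.iso (Iso.refl N), ‹_›, ‹_›, hn, hN, inferInstance,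
    ⊤, ⟨genericPoint N, trivial⟩, inferInstance⟩

/-- A normalized blow-up of a stage at a non-generic closed point is a stage. -/
theorem exists_step {W N : Scheme.{u}} [IsIntegral N] {g : W ⟶ N} (hg : IsStage g) {z : W}
    (hz : IsClosed ({z} : Set W)) (hne : haveI := hg.isIntegral; z ≠ genericPoint W) :
    ∃ (W' Z' : Scheme.{u}) (ν : W' ⟶ Z') (b : Z' ⟶ W), IsStage ((ν ≫ b) ≫ g) ∧ IsProper (ν ≫ b) ∧ Bir (ν ≫ b) ∧
      BlowUp.IsEffCartierIdeal ((Scheme.IdealSheafData.vanishingIdeal ⟨{z}, hz⟩).comap b) := by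
  haveI := hg.isIntegral
  haveI := hg.isNoetherian
  haveI := hg.proper
  set I := Scheme.IdealSheafData.vanishingIdeal (⟨{z}, hz⟩ : Closeds W)
  obtain ⟨Z', b, hb⟩ := BlowUpExists.exists_isBlowUp W I
  have hI : ∀ U, (I.ideal U).FG := fun U => by
    have : IsNoetherianRing Γ(W, U.1) := IsLocallyNoetherian.component_noetherian U
    exact IsNoetherian.noetherian _
  have hsupp : (I.support : Set W) = {z} := by
    rw [Scheme.IdealSheafData.coe_support_vanishingIdeal]
    rfl
  have hgen : genericPoint W ∉ I.support := fun h => hne (Set.mem_singleton_iff.mp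
    (hsupp ▸ (show genericPoint W ∈ (I.support : Set W) from h))).symm
  haveI : IsIntegral Z' := Groth.Agent.H22.AffineCompl11382.isIntegral_of_isBlowUp hb hI hgen
  haveI : IsProper b := BlowUpExists.isProper_of_isBlowUp hb hI
  haveI : IsLocallyNoetherian Z' := LocallyOfFiniteType.isLocallyNoetherian b
  haveI : CompactSpace Z' := QuasiCompact.compactSpace_of_compactSpace b
  haveI : IsNoetherian Z' := {}
  have hbb : Bir b := ⟨I.support.compl, ⟨_, hgen⟩, Lib.Ideal.BlowUp.isIso_off_center hb⟩
  haveI := finiteSpec_qc Z'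
  haveI := qs_generic Z'
  obtain ⟨hint, hfin, hno, hn, hnag, hνb⟩ := normalization_good Z' (isNag_of_lft b hg.nagata)
  have hπ : Bir (Curv2.normalizationι Z' ≫ b) := bir_comp hνb hbb
  refine ⟨_, Z', Curv2.normalizationι Z', b, ⟨?_, hint, hno, hn, hnag, inferInstance, bir_comp hπ hg.bir⟩,
    inferInstance, hπ, hb.1⟩
  rw [Category.assoc]
  exact Resolve.IsNormPtBlowupSeq.step b g z hz hb hg.seq

/-- A morphism from the spectrum of a field to the generic point inducing a bijection of fields. -/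
def IsGenPt {W : Scheme.{u}} [IsIntegral W] {K : CommRingCat.{u}} (h : Spec K ⟶ W) : Prop :=
  ∃ ω : W.presheaf.stalk (genericPoint W) ⟶ K, Function.Bijective ω.hom ∧
    h = Spec.map ω ≫ W.fromSpecStalk (genericPoint W)

theorem genPt_lift {W N : Scheme.{u}} [IsIntegral W] [IsIntegral N] (g : W ⟶ N) (hg : Bir g)
    {K : CommRingCat.{u}} {e : Spec K ⟶ N} (he : IsGenPt e) : ∃ h, h ≫ g = e ∧ IsGenPt h := by
  obtain ⟨hgen, hb⟩ := generic_of_bir hg
  obtain ⟨ω, hω, rfl⟩ := he
  have hsp : g (genericPoint W) ⤳ genericPoint N := specializes_of_eq hgen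
  have hsp' : genericPoint N ⤳ g (genericPoint W) := specializes_of_eq hgen.symm
  let σ := N.presheaf.stalkSpecializes hsp'
  have hσ : Function.Bijective σ.hom := Groth.Agent.H22.Birational12426.bijective_specializes hgen.symm hsp'
  haveI : IsIso (g.stalkMap (genericPoint W)) := (ConcreteCategory.isIso_iff_bijective _).2 hb
  refine ⟨Spec.map (inv (g.stalkMap (genericPoint W)) ≫ σ ≫ ω) ≫ W.fromSpecStalk _, ?_, _, ?_, rfl⟩
  · rw [Category.assoc, ← Scheme.SpecMap_stalkMap_fromSpecStalk, ← Spec.map_comp_assoc,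
      IsIso.hom_inv_id_assoc, Spec.map_comp, Category.assoc,
      Scheme.SpecMap_stalkSpecializes_fromSpecStalk]
  · simp only [CommRingCat.hom_comp, RingHom.coe_comp]
    exact (hω.comp hσ).comp (ConcreteCategory.bijective_of_isIso (inv (g.stalkMap (genericPoint W))))

theorem genPt_unique {W N : Scheme.{u}} [IsIntegral N] (g : W ⟶ N) (hg : Bir g) {K : CommRingCat.{u}}
    [IsLocalRing K] {e : Spec K ⟶ N} (he : IsGenPt e) (hK : Subsingleton (Spec K)) {h h' : Spec K ⟶ W}
    (h1 : h ≫ g = e) (h2 : h' ≫ g = e) : h = h' := by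
  obtain ⟨V, hV, hiso⟩ := hg
  have hmem : ∀ k, e k ∈ V := by
    obtain ⟨ω, hω, rfl⟩ := he
    intro k
    have : (Spec.map ω ≫ N.fromSpecStalk (genericPoint N)) k ⤳ genericPoint N := by
      have hm : (Spec.map ω ≫ N.fromSpecStalk (genericPoint N)) k ∈ Set.range (N.fromSpecStalk (genericPoint N)) :=
        ⟨_, (Scheme.Hom.comp_apply _ _ _).symm⟩
      rwa [Scheme.range_fromSpecStalk] at hm
    exact this.mem_open V.2 (((genericPoint_spec N).mem_open_set_iff V.2).2 (by simpa using hV))
  have hr : ∀ (m : Spec K ⟶ W), m ≫ g = e → Set.range m ⊆ Set.range (g ⁻¹ᵁ V).ι := by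
    rintro m hm _ ⟨k, rfl⟩
    rw [Scheme.Opens.range_ι]
    show g (m k) ∈ V
    rw [← Scheme.Hom.comp_apply, hm]
    exact hmem k
  rw [← IsOpenImmersion.lift_fac _ _ (hr h h1), ← IsOpenImmersion.lift_fac _ _ (hr h' h2)]
  congr 1
  haveI := hiso
  rw [← cancel_mono (g ∣_ V), ← cancel_mono V.ι]
  simp only [Category.assoc, morphismRestrict_ι, IsOpenImmersion.lift_fac_assoc, h1, h2]

variable (A : CommRingCat.{u}) [IsDomain A] [ValuationRing A]

/-- The map from the generic point of `Spec A`. -/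
noncomputable abbrev gen : Spec (CommRingCat.of (FractionRing A)) ⟶ Spec A :=
  Spec.map (CommRingCat.ofHom (algebraMap A (FractionRing A)))

theorem exists_center {W N : Scheme.{u}} [IsIntegral W] [IsIntegral N] (g : W ⟶ N) [IsProper g] (hg : Bir g)
    {e : Spec A ⟶ N} (he : IsGenPt (gen A ≫ e)) : ∃ c, c ≫ g = e ∧ IsGenPt (gen A ≫ c) := by
  obtain ⟨h, hh, hh'⟩ := genPt_lift g hg he
  have H : ValuativeCriterion g := ((IsProper.eq_valuativeCriterion ▸ (inferInstance : IsProper g)) :
    (ValuativeCriterion ⊓ @QuasiCompact ⊓ @QuasiSeparated ⊓ @LocallyOfFiniteType) g).1.1.1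
  obtain ⟨l, hl1, hl2⟩ := (H.existence { R := A, K := FractionRing A, i₁ := h, i₂ := e, commSq := ⟨hh⟩ }).exists_lift
  exact ⟨l, hl2, by rw [show gen A ≫ l = h from hl1]; exact hh'⟩

theorem center_unique {W N : Scheme.{u}} [IsIntegral N] (g : W ⟶ N) [IsSeparated g] (hg : Bir g)
    {e : Spec A ⟶ N} (he : IsGenPt (gen A ≫ e)) {c c' : Spec A ⟶ W} (h1 : c ≫ g = e) (h2 : c' ≫ g = e) :
    c = c' := by
  haveI : IsDominant (gen A) := ⟨PrimeSpectrum.denseRange_comap_iff_ker_le_nilRadical _ |>.mpr
    (by rw [CommRingCat.hom_ofHom, (RingHom.injective_iff_ker_eq_bot _).mp (IsFractionRing.injective A (FractionRing A))]; exact bot_le)⟩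
  refine ext_of_isDominant_of_isSeparated g (h1.trans h2.symm) (gen A) ?_
  refine genPt_unique g hg he ?_ (by rw [Category.assoc, h1]) (by rw [Category.assoc, h2])
  exact inferInstanceAs (Subsingleton (PrimeSpectrum (FractionRing A)))

omit [ValuationRing A] in
/-- Every element of `A` is a quotient of images of the local ring at a centre. -/
theorem exists_fraction [IsLocalRing A] {W : Scheme.{u}} [IsIntegral W] (c : Spec A ⟶ W)
    (hc : IsGenPt (gen A ≫ c)) (T : A) :
    ∃ a ∈ Center.img c, ∃ b ∈ Center.img c, b ≠ 0 ∧ a = T * b := by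
  obtain ⟨ω, hω, hωc⟩ := hc
  set w := c (closedPoint A)
  have hs : genericPoint W ⤳ w := (genericPoint_spec W).specializes trivial
  have key : Scheme.stalkClosedPointTo c ≫ CommRingCat.ofHom (algebraMap A (FractionRing A)) =
      W.presheaf.stalkSpecializes hs ≫ ω := by
    rw [← Spec.map_inj, ← cancel_mono (W.fromSpecStalk w), Spec.map_comp, Spec.map_comp, Category.assoc,
      Category.assoc, Scheme.SpecMap_stalkSpecializes_fromSpecStalk]
    exact (congrArg (gen A ≫ ·) (Scheme.Spec_stalkClosedPointTo_fromSpecStalk c)).trans hωc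
  have key' : ∀ s, algebraMap A (FractionRing A) (Scheme.stalkClosedPointTo c s) =
      ω.hom (W.presheaf.stalkSpecializes hs s) := fun s => congr($key s)
  obtain ⟨q, hq⟩ := hω.2 (algebraMap A (FractionRing A) T)
  obtain ⟨a, b, hb, hab⟩ := IsFractionRing.div_surjective (A := W.presheaf.stalk w) (K := W.functionField) q
  have hb0 : (algebraMap (W.presheaf.stalk w) W.functionField) b ≠ 0 :=
    (map_ne_zero_iff _ (IsFractionRing.injective _ _)).mpr (nonZeroDivisors.ne_zero hb)
  refine ⟨_, ⟨a, rfl⟩, _, ⟨b, rfl⟩, fun h => hb0 (hω.1 ?_), IsFractionRing.injective A (FractionRing A) ?_⟩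
  · have := key' b
    rw [h, map_zero] at this
    rw [map_zero]
    exact this.symm
  · rw [map_mul, key', key', ← hq, ← map_mul]
    congr 1
    exact ((div_eq_iff hb0).mp hab).symm ▸ rfl

end Groth.Agent.Lib.NormBlow74.Modif
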